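import Cfsg.Agent.J4Local.Code
import Cfsg.Agent.J4Local.Facts

/-! Kernel checks of the certificate. -/

set_option autoImplicit false
set_option maxRecDepth 100000

namespace CfsgLib.J4Local.Checks

open CfsgLib.DCert22

theorem facts0 : rangeOK code Data.cert 0 64 = true := by decide +kernel

theorem facts1 : rangeOK code Data.cert 64 64 = true := by decide +kernel

theorem facts2 : rangeOK code Data.cert 128 64 = true := by decide +kernel

theorem facts3 : rangeOK code Data.cert 192 64 = true := by decide +kernel

theorem facts4 : rangeOK code Data.cert 256 64 = true := by decide +kernel

theorem facts5 : rangeOK code Data.cert 320 64 = true := by decide +kernel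

theorem facts6 : rangeOK code Data.cert 384 64 = true := by decide +kernel

theorem facts7 : rangeOK code Data.cert 448 64 = true := by decide +kernel

theorem facts8 : rangeOK code Data.cert 512 64 = true := by decide +kernel

theorem facts9 : rangeOK code Data.cert 576 64 = true := by decide +kernel

theorem facts10 : rangeOK code Data.cert 640 64 = true := by decide +kernel

theorem facts11 : rangeOK code Data.cert 704 64 = true := by decide +kernel

theorem facts12 : rangeOK code Data.cert 768 64 = true := by decide +kernel

theorem facts13 : rangeOK code Data.cert 832 64 = true := by decide +kernel

theorem facts14 : rangeOK code Data.cert 896 64 = true := by decide +kernel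

theorem facts15 : rangeOK code Data.cert 960 64 = true := by decide +kernel

theorem facts16 : rangeOK code Data.cert 1024 64 = true := by decide +kernel

theorem facts17 : rangeOK code Data.cert 1088 64 = true := by decide +kernel

theorem facts18 : rangeOK code Data.cert 1152 50 = true := by decide +kernel

end CfsgLib.J4Local.Checks
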