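import Cfsg.Agent.J4Local.Code
import Cfsg.Agent.DCosetCert22.Sound
import Cfsg.Agent.J4M24.Iso
import Mathlib.Tactic.Group

/-!
The model of the point stabiliser `<x, y>` of the presented fourth Janko group.
-/

set_option autoImplicit false
set_option maxRecDepth 100000

namespace CfsgLib.J4Local

open Cfsg CfsgLib.DCert22 CfsgLib.CosetEnum CfsgLib.J4M24 CfsgLib.Mathieu

theorem psum_lt (f : ℕ → ℕ) : ∀ k, (∀ i < k, f i < 32) → psum (fun i => f i * 32 ^ i) k < 32 ^ k
  | 0, _ => by simp [psum]
  | k + 1, h => by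
    have h1 := psum_lt f k fun i hi => h i (by omega)
    have h2 := h k (by omega)
    simp only [psum, pow_succ]
    nlinarith [Nat.two_pow_pos k]

theorem psum_digit (f : ℕ → ℕ) : ∀ k, (∀ i < k, f i < 32) → ∀ i < k,
    psum (fun i => f i * 32 ^ i) k / 32 ^ i % 32 = f i
  | 0, _, i, hi => by omega
  | k + 1, h, i, hi => by
    simp only [psum]
    rcases Nat.lt_succ_iff_lt_or_eq.1 hi with hik | rfl
    · obtain ⟨d, rfl⟩ : ∃ d, k = i + (d + 1) := ⟨k - i - 1, by omega⟩
      have e : f (i + (d + 1)) * 32 ^ (i + (d + 1)) = f (i + (d + 1)) * 32 ^ d * 32 * 32 ^ i := by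
        rw [pow_add, pow_succ]; ring
      rw [e, Nat.add_mul_div_right _ _ (Nat.pow_pos (by norm_num)), Nat.add_mul_mod_self_right]
      exact psum_digit f _ (fun j hj => h j (by omega)) i hik
    · rw [Nat.add_mul_div_right _ _ (Nat.pow_pos (by norm_num)),
        Nat.div_eq_of_lt (psum_lt f i fun j hj => h j (by omega)), zero_add,
        Nat.mod_eq_of_lt (h i (by omega))]

theorem dig_pk {f : ℕ → ℕ} (h : ∀ i < 24, f i < 32) {i : ℕ} (hi : i < 24) : dig (pk f) i = f i := by
  rw [dig, pk]
  show (_ >>> (5 * i)) % 32 = _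
  rw [Nat.shiftRight_eq_div_pow, pow_mul]
  exact psum_digit f 24 h i hi

theorem psum_congr {f g : ℕ → ℕ} : ∀ k, (∀ i < k, f i = g i) → psum f k = psum g k
  | 0, _ => rfl
  | k + 1, h => by rw [psum, psum, psum_congr k fun i hi => h i (by omega), h k (by omega)]

theorem psum_eq_sum (f : ℕ → ℕ) : ∀ k, psum f k = ∑ i ∈ Finset.range k, f i
  | 0 => by simp [psum]
  | k + 1 => by rw [psum, psum_eq_sum f k, Finset.sum_range_succ]

/-- the image of a numbered point -/
noncomputable def act (g : P) (i : ℕ) : ℕ :=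
  p2i ((phi g : Equiv.Perm GolayPt) (i2p i))

theorem act_lt (g : P) (i : ℕ) : act g i < 24 := p2i_lt _

theorem act_mul (g h : P) (i : ℕ) : act (g * h) i = act g (act h i) := by
  simp only [act, i2p_p2i, map_mul, Subgroup.coe_mul, Equiv.Perm.mul_apply]

theorem act_one {i : ℕ} (hi : i < 24) : act 1 i = i := by
  simp [act, p2i_i2p i hi]

/-- coding -/
noncomputable def enc (g : P) : ℕ := pk (act g)

theorem dig_enc (g : P) {i : ℕ} (hi : i < 24) : dig (enc g) i = act g i :=
  dig_pk (fun j _ => (act_lt g j).trans (by norm_num)) hi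

theorem enc_injective : Function.Injective enc := by
  intro g h e
  refine phi_injective (Subtype.ext (Equiv.ext fun p => p2i_injective ?_))
  have := congrArg (fun n => dig n (p2i p)) e
  simpa [dig_enc _ (p2i_lt p), act, i2p_p2i] using this

theorem enc_mul (g h : P) : enc (g * h) = mulC (enc g) (enc h) := by
  refine psum_congr 24 fun i hi => ?_
  simp only [dig_enc h hi, dig_enc g (act_lt h i), act_mul]

theorem enc_one : enc 1 = Chains.oneC := by
  have h : pk (fun i => i) = Chains.oneC := by decide +kernel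
  rw [← h]
  exact psum_congr 24 fun i hi => by rw [act_one hi]

theorem enc_inv (g : P) : enc g⁻¹ = invC (enc g) := by
  rw [invC, enc, pk, psum_eq_sum, psum_eq_sum]
  refine Finset.sum_nbij' (fun i => act g⁻¹ i) (fun i => act g i) ?_ ?_ ?_ ?_ ?_
  · intro i _; simp [act_lt]
  · intro i _; simp [act_lt]
  · intro i hi
    rw [← act_mul, mul_inv_cancel, act_one (Finset.mem_range.1 hi)]
  · intro i hi
    rw [← act_mul, inv_mul_cancel, act_one (Finset.mem_range.1 hi)]
  · intro i hi
    rw [dig_enc g (act_lt _ i), ← act_mul, mul_inv_cancel, act_one (Finset.mem_range.1 hi)]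

theorem act_gl {c : ℕ} (hc : c < 4) {i : ℕ} (hi : i < 24) : act (gl c) i = app (mt c) i := by
  have h := phi_gword [c]
  rw [gword_cons, gword_nil, mul_one, gword_cons, gword_nil, mul_one] at h
  rw [act, h, ← toTab_ml c hc, app_toTab _ i hi]

theorem act_px {i : ℕ} (hi : i < 24) : act px i = app (mt 0) i := act_gl (c := 0) (by norm_num) hi

theorem act_py {i : ℕ} (hi : i < 24) : act py i = app (mt 2) i := act_gl (c := 2) (by norm_num) hi

theorem enc_px : enc px = Chains.xC := by
  have h : pk (fun i => app (mt 0) i) = Chains.xC := by decide +kernel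
  rw [← h]
  exact psum_congr 24 fun i hi => by simp only [act_px hi]

theorem enc_py : enc py = Chains.yC := by
  have h : pk (fun i => app (mt 2) i) = Chains.yC := by decide +kernel
  rw [← h]
  exact psum_congr 24 fun i hi => by simp only [act_py hi]

/-- the word centralising `t` -/
noncomputable def trio : P := py * px * py * (px * py⁻¹) ^ 2 * (px * py) ^ 3

theorem enc_trio : enc trio = Chains.sC := by
  simp only [trio, pow_succ, pow_zero, one_mul, enc_mul, enc_inv, enc_px, enc_py]
  decide +kernel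

/-- codes of members -/
def InK (K : Subgroup P) (n : ℕ) : Prop := ∃ g ∈ K, enc g = n

theorem inK_getD {K : Subgroup P} {l : List ℕ} (h : ∀ n ∈ l, InK K n) (i : ℕ) :
    InK K (l.getD i Chains.oneC) := by
  by_cases hi : i < l.length
  · rw [List.getD_eq_getElem _ _ hi]; exact h _ (List.getElem_mem hi)
  · rw [List.getD_eq_default _ _ (by omega)]; exact ⟨1, K.one_mem, enc_one⟩

theorem inK_prog (K : Subgroup P) : ∀ (es : List (Bool × ℕ × ℕ × ℕ)) (prev : List ℕ),
    (∀ n ∈ prev, InK K n) → progOK prev es = true →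
    ∀ n ∈ prev ++ es.map (fun e => e.2.2.2), InK K n
  | [], prev, hp, _, n, hn => hp n (by simpa using hn)
  | (inv?, i, j, v) :: es, prev, hp, h, n, hn => by
    simp only [progOK, Bool.and_eq_true] at h
    have hv : InK K v := by
      obtain ⟨a, ha, ea⟩ := inK_getD hp i
      obtain ⟨b, hb, eb⟩ := inK_getD hp j
      have hs := Nat.eq_of_beq_eq_true h.1
      cases inv? <;> simp only [stepVal] at hs
      · exact ⟨a * b, K.mul_mem ha hb, by rw [enc_mul, ea, eb, hs]⟩
      · exact ⟨a⁻¹, K.inv_mem ha, by rw [enc_inv, ea, hs]⟩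
    refine inK_prog K es (prev ++ [v]) ?_ h.2 n (by simpa using hn)
    intro m hm
    rcases List.mem_append.1 hm with hm | hm
    · exact hp m hm
    · simp only [List.mem_singleton] at hm; exact hm ▸ hv

theorem inK_listed (K : Subgroup P) {all : List ℕ} (hall : ∀ n ∈ all, InK K n) :
    ∀ ls, listedOK all ls = true → ∀ l ∈ ls, ∀ e ∈ l.2, InK K e.2.1
  | [], _, l, hl => by simp at hl
  | (b, ks) :: ls, h, l, hl => by
    simp only [listedOK, Bool.and_eq_true, List.all_eq_true] at h
    rcases List.mem_cons.1 hl with rfl | hl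
    · intro e he
      obtain ⟨h1, h2⟩ := h.1 e he
      have hlt : e.1 < all.length := by simpa [Nat.blt, Nat.ble_eq] using h1
      rw [← Nat.eq_of_beq_eq_true h2, List.getD_eq_getElem _ _ hlt]
      exact hall _ (List.getElem_mem hlt)
    · exact inK_listed K hall ls h.2 l hl

theorem pick_mem {b y : ℕ} : ∀ {ks e}, pick b y ks = some e → e ∈ ks
  | [], e, h => by simp [pick] at h
  | k :: ks, e, h => by
    simp only [pick] at h
    split at h
    · cases h; exact List.mem_cons_self
    · exact List.mem_cons_of_mem _ (pick_mem h)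

theorem inK_sift (K : Subgroup P) : ∀ (ls : List (ℕ × List (ℕ × ℕ × ℕ))),
    (∀ l ∈ ls, ∀ e ∈ l.2, InK K e.2.1) → ∀ r acc, InK K acc →
      ∀ a, sift ls r acc = some a → InK K a
  | [], _, r, acc, hacc, a, h => by simp only [sift, Option.some.injEq] at h; exact h ▸ hacc
  | (b, ks) :: ls, hk, r, acc, hacc, a, h => by
    simp only [sift] at h
    split at h
    · next i k ki hp =>
      obtain ⟨g, hg, eg⟩ := hk (b, ks) List.mem_cons_self _ (pick_mem hp)
      obtain ⟨f, hf, ef⟩ := hacc
      refine inK_sift K ls (fun l hl => hk l (List.mem_cons_of_mem _ hl)) _ _ ?_ a h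
      exact ⟨f * g, K.mul_mem hf hg, by rw [enc_mul, eg, ef]⟩
    · cases h

theorem inK_inChain (K : Subgroup P) {ls : List (ℕ × List (ℕ × ℕ × ℕ))}
    (hls : ∀ l ∈ ls, ∀ e ∈ l.2, InK K e.2.1) {n : ℕ} (h : inChain ls n = true) : InK K n := by
  simp only [inChain] at h
  split at h
  · next a ha =>
    exact Nat.eq_of_beq_eq_true h ▸ inK_sift K ls hls n _ ⟨1, K.one_mem, enc_one⟩ a ha
  · simp at h

theorem hchain_ok : (progOK [Chains.oneC, Chains.xC, Chains.yC] Chains.hSteps &&
    listedOK ([Chains.oneC, Chains.xC, Chains.yC] ++ Chains.hSteps.map (fun e => e.2.2.2))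
      Chains.hLevels) = true := by decide +kernel

theorem cchain_ok : (progOK [Chains.oneC, Chains.xC, Chains.sC] Chains.cSteps &&
    listedOK ([Chains.oneC, Chains.xC, Chains.sC] ++ Chains.cSteps.map (fun e => e.2.2.2))
      Chains.cLevels) = true := by decide +kernel

/-- the generator `t` -/
abbrev jt : Spor.J4 := PresentedGroup.of Spor.J4.Gen.t

/-- the generator `x` -/
abbrev jx : Spor.J4 := PresentedGroup.of Spor.J4.Gen.x

/-- the generator `y` -/
abbrev jy : Spor.J4 := PresentedGroup.of Spor.J4.Gen.y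

theorem incl_px : incl px = jx := PresentedGroup.toGroup.of _

theorem incl_py : incl py = jy := PresentedGroup.toGroup.of _

theorem relator_one {r : FreeGroup Spor.J4.Gen} (h : r ∈ Spor.J4.extra) :
    FreeGroup.lift (fun g => (PresentedGroup.of g : Spor.J4)) r = 1 := by
  have e : FreeGroup.lift (fun g => (PresentedGroup.of g : Spor.J4)) =
      PresentedGroup.mk (Spor.coxRelators Spor.J4.edges ∪ {r | r ∈ Spor.J4.extra}) := by
    ext a; simp [PresentedGroup.of]
  rw [e]
  exact PresentedGroup.one_of_mem (Or.inr h)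

theorem t_sq : jt * jt = 1 := by
  have h := relator_one (r := Spor.J4.t ^ 2) (by simp [Spor.J4.extra])
  simpa [pow_two] using h

theorem t_comm_x : Commute jt jx := by
  have h := relator_one (r := Spor.J4.t⁻¹ * Spor.J4.x⁻¹ * Spor.J4.t * Spor.J4.x)
    (by simp [Spor.J4.extra])
  simp only [map_mul, map_inv, FreeGroup.lift_apply_of] at h
  show jt * jx = jx * jt
  calc jt * jx = jx * jt * (jt⁻¹ * jx⁻¹ * jt * jx) := by group
    _ = jx * jt := by rw [h, mul_one]

theorem t_comm_trio : Commute jt (incl trio) := by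
  have h := relator_one
    (r := Spor.J4.t⁻¹ * (Spor.J4.y * Spor.J4.x * Spor.J4.y * ((Spor.J4.x * (Spor.J4.y⁻¹)) ^ 2) *
      ((Spor.J4.x * Spor.J4.y) ^ 3))⁻¹ * Spor.J4.t * (Spor.J4.y * Spor.J4.x * Spor.J4.y *
      ((Spor.J4.x * (Spor.J4.y⁻¹)) ^ 2) * ((Spor.J4.x * Spor.J4.y) ^ 3)))
    (by simp [Spor.J4.extra])
  simp only [map_mul, map_inv, map_pow, FreeGroup.lift_apply_of] at h
  simp only [trio, map_mul, map_inv, map_pow, incl_px, incl_py]
  generalize jy * jx * jy * (jx * jy⁻¹) ^ 2 * (jx * jy) ^ 3 = s at h ⊢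
  show jt * s = s * jt
  calc jt * s = s * jt * (jt⁻¹ * s⁻¹ * jt * s) := by group
    _ = s * jt := by rw [h, mul_one]

theorem valid_spec {n : ℕ} (h : inChain Chains.hLevels n = true) : ∃ g, enc g = n := by
  have hk := hchain_ok
  rw [Bool.and_eq_true] at hk
  have hp := inK_prog ⊤ Chains.hSteps [Chains.oneC, Chains.xC, Chains.yC] (fun m hm => by
    simp only [List.mem_cons, List.not_mem_nil, or_false] at hm
    rcases hm with rfl | rfl | rfl
    exacts [⟨1, trivial, enc_one⟩, ⟨px, trivial, enc_px⟩, ⟨py, trivial, enc_py⟩]) hk.1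
  obtain ⟨g, -, hg⟩ := inK_inChain ⊤ (inK_listed ⊤ hp _ hk.2) h
  exact ⟨g, hg⟩

theorem cim_ok {n : ℕ} (h : inChain Chains.cLevels n = true) :
    ∃ g, enc g = n ∧ Commute (incl g) jt := by
  have hk := cchain_ok
  rw [Bool.and_eq_true] at hk
  let K : Subgroup P := (Subgroup.centralizer {jt}).comap incl
  have hmem : ∀ g, Commute jt (incl g) → g ∈ K := fun g hg =>
    Subgroup.mem_comap.2 (Subgroup.mem_centralizer_singleton_iff.2 hg.eq.symm)
  have hp := inK_prog K Chains.cSteps [Chains.oneC, Chains.xC, Chains.sC] (fun m hm => by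
    simp only [List.mem_cons, List.not_mem_nil, or_false] at hm
    rcases hm with rfl | rfl | rfl
    exacts [⟨1, K.one_mem, enc_one⟩, ⟨px, hmem px (incl_px ▸ t_comm_x), enc_px⟩,
      ⟨trio, hmem trio t_comm_trio, enc_trio⟩]) hk.1
  obtain ⟨g, hgK, hg⟩ := inK_inChain K (inK_listed K hp _ hk.2) h
  exact ⟨g, hg, Subgroup.mem_centralizer_singleton_iff.1 (Subgroup.mem_comap.1 hgK)⟩

/-- the model -/
noncomputable def model : Model code Spor.J4 P where
  enc := enc
  hom := incl
  t := jt
  enc_inj := enc_injective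
  enc_one := enc_one
  enc_mul := enc_mul
  enc_inv := enc_inv
  valid_spec _ h := valid_spec h
  u_spec := ⟨1, enc_one, by rw [map_one, t_sq]⟩
  cim_spec c d h := by
    simp only [code] at h
    split at h
    · next hc =>
      simp only [Option.some.injEq] at h
      obtain ⟨g, hg, hcom⟩ := cim_ok hc
      exact ⟨g, g, hg, h ▸ hg, hcom.eq⟩
    · cases h

end CfsgLib.J4Local
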