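import Cfsg.Agent.J4Local.Code
import Cfsg.Agent.J4Local.Facts
import Cfsg.Agent.J4Local.States
import Cfsg.Agent.J4Local.Moves0
import Cfsg.Agent.J4Local.Moves1
import Cfsg.Agent.J4Local.Moves2
import Cfsg.Agent.J4Local.Moves3

/-! Kernel checks of the certificate. -/

set_option autoImplicit false
set_option maxRecDepth 100000

namespace CfsgLib.J4Local.Checks

open CfsgLib.DCert22

theorem moves0 : closedOK code Data.cert 1202 2048 Data.states Data.gens 0 Data.mv0 = true ∧
    Data.mv0.length = 32 := by decide +kernel

theorem moves1 : closedOK code Data.cert 1202 2048 Data.states Data.gens 32 Data.mv1 = true ∧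
    Data.mv1.length = 32 := by decide +kernel

theorem moves2 : closedOK code Data.cert 1202 2048 Data.states Data.gens 64 Data.mv2 = true ∧
    Data.mv2.length = 32 := by decide +kernel

theorem moves3 : closedOK code Data.cert 1202 2048 Data.states Data.gens 96 Data.mv3 = true ∧
    Data.mv3.length = 32 := by decide +kernel

theorem moves4 : closedOK code Data.cert 1202 2048 Data.states Data.gens 128 Data.mv4 = true ∧
    Data.mv4.length = 32 := by decide +kernel

theorem moves5 : closedOK code Data.cert 1202 2048 Data.states Data.gens 160 Data.mv5 = true ∧
    Data.mv5.length = 32 := by decide +kernel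

theorem moves6 : closedOK code Data.cert 1202 2048 Data.states Data.gens 192 Data.mv6 = true ∧
    Data.mv6.length = 32 := by decide +kernel

theorem moves7 : closedOK code Data.cert 1202 2048 Data.states Data.gens 224 Data.mv7 = true ∧
    Data.mv7.length = 32 := by decide +kernel

theorem moves8 : closedOK code Data.cert 1202 2048 Data.states Data.gens 256 Data.mv8 = true ∧
    Data.mv8.length = 32 := by decide +kernel

theorem moves9 : closedOK code Data.cert 1202 2048 Data.states Data.gens 288 Data.mv9 = true ∧
    Data.mv9.length = 32 := by decide +kernel

theorem moves10 : closedOK code Data.cert 1202 2048 Data.states Data.gens 320 Data.mv10 = true ∧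
    Data.mv10.length = 32 := by decide +kernel

theorem moves11 : closedOK code Data.cert 1202 2048 Data.states Data.gens 352 Data.mv11 = true ∧
    Data.mv11.length = 32 := by decide +kernel

theorem moves12 : closedOK code Data.cert 1202 2048 Data.states Data.gens 384 Data.mv12 = true ∧
    Data.mv12.length = 32 := by decide +kernel

theorem moves13 : closedOK code Data.cert 1202 2048 Data.states Data.gens 416 Data.mv13 = true ∧
    Data.mv13.length = 32 := by decide +kernel

theorem moves14 : closedOK code Data.cert 1202 2048 Data.states Data.gens 448 Data.mv14 = true ∧
    Data.mv14.length = 32 := by decide +kernel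

theorem moves15 : closedOK code Data.cert 1202 2048 Data.states Data.gens 480 Data.mv15 = true ∧
    Data.mv15.length = 32 := by decide +kernel

end CfsgLib.J4Local.Checks
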