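import Cfsg.Agent.J4Local.Code
import Cfsg.Agent.J4Local.Facts
import Cfsg.Agent.J4Local.States
import Cfsg.Agent.J4Local.Moves4
import Cfsg.Agent.J4Local.Moves5
import Cfsg.Agent.J4Local.Moves6
import Cfsg.Agent.J4Local.Moves7

/-! Kernel checks of the certificate. -/

set_option autoImplicit false
set_option maxRecDepth 100000

namespace CfsgLib.J4Local.Checks

open CfsgLib.DCert22

theorem moves16 : closedOK code Data.cert 1202 2048 Data.states Data.gens 512 Data.mv16 = true ∧
    Data.mv16.length = 32 := by decide +kernel

theorem moves17 : closedOK code Data.cert 1202 2048 Data.states Data.gens 544 Data.mv17 = true ∧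
    Data.mv17.length = 32 := by decide +kernel

theorem moves18 : closedOK code Data.cert 1202 2048 Data.states Data.gens 576 Data.mv18 = true ∧
    Data.mv18.length = 32 := by decide +kernel

theorem moves19 : closedOK code Data.cert 1202 2048 Data.states Data.gens 608 Data.mv19 = true ∧
    Data.mv19.length = 32 := by decide +kernel

theorem moves20 : closedOK code Data.cert 1202 2048 Data.states Data.gens 640 Data.mv20 = true ∧
    Data.mv20.length = 32 := by decide +kernel

theorem moves21 : closedOK code Data.cert 1202 2048 Data.states Data.gens 672 Data.mv21 = true ∧
    Data.mv21.length = 32 := by decide +kernel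

theorem moves22 : closedOK code Data.cert 1202 2048 Data.states Data.gens 704 Data.mv22 = true ∧
    Data.mv22.length = 32 := by decide +kernel

theorem moves23 : closedOK code Data.cert 1202 2048 Data.states Data.gens 736 Data.mv23 = true ∧
    Data.mv23.length = 32 := by decide +kernel

theorem moves24 : closedOK code Data.cert 1202 2048 Data.states Data.gens 768 Data.mv24 = true ∧
    Data.mv24.length = 32 := by decide +kernel

theorem moves25 : closedOK code Data.cert 1202 2048 Data.states Data.gens 800 Data.mv25 = true ∧
    Data.mv25.length = 32 := by decide +kernel

theorem moves26 : closedOK code Data.cert 1202 2048 Data.states Data.gens 832 Data.mv26 = true ∧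
    Data.mv26.length = 32 := by decide +kernel

theorem moves27 : closedOK code Data.cert 1202 2048 Data.states Data.gens 864 Data.mv27 = true ∧
    Data.mv27.length = 32 := by decide +kernel

theorem moves28 : closedOK code Data.cert 1202 2048 Data.states Data.gens 896 Data.mv28 = true ∧
    Data.mv28.length = 32 := by decide +kernel

theorem moves29 : closedOK code Data.cert 1202 2048 Data.states Data.gens 928 Data.mv29 = true ∧
    Data.mv29.length = 32 := by decide +kernel

theorem moves30 : closedOK code Data.cert 1202 2048 Data.states Data.gens 960 Data.mv30 = true ∧
    Data.mv30.length = 32 := by decide +kernel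

theorem moves31 : closedOK code Data.cert 1202 2048 Data.states Data.gens 992 Data.mv31 = true ∧
    Data.mv31.length = 32 := by decide +kernel

end CfsgLib.J4Local.Checks
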