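import Cfsg.Agent.J4Local.Code
import Cfsg.Agent.J4Local.Facts
import Cfsg.Agent.J4Local.States
import Cfsg.Agent.J4Local.Moves8
import Cfsg.Agent.J4Local.Moves9
import Cfsg.Agent.J4Local.Moves10
import Cfsg.Agent.J4Local.Moves11

/-! Kernel checks of the certificate. -/

set_option autoImplicit false
set_option maxRecDepth 100000

namespace CfsgLib.J4Local.Checks

open CfsgLib.DCert22

theorem moves32 : closedOK code Data.cert 1202 2048 Data.states Data.gens 1024 Data.mv32 = true ∧
    Data.mv32.length = 32 := by decide +kernel

theorem moves33 : closedOK code Data.cert 1202 2048 Data.states Data.gens 1056 Data.mv33 = true ∧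
    Data.mv33.length = 32 := by decide +kernel

theorem moves34 : closedOK code Data.cert 1202 2048 Data.states Data.gens 1088 Data.mv34 = true ∧
    Data.mv34.length = 32 := by decide +kernel

theorem moves35 : closedOK code Data.cert 1202 2048 Data.states Data.gens 1120 Data.mv35 = true ∧
    Data.mv35.length = 32 := by decide +kernel

theorem moves36 : closedOK code Data.cert 1202 2048 Data.states Data.gens 1152 Data.mv36 = true ∧
    Data.mv36.length = 32 := by decide +kernel

theorem moves37 : closedOK code Data.cert 1202 2048 Data.states Data.gens 1184 Data.mv37 = true ∧
    Data.mv37.length = 32 := by decide +kernel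

theorem moves38 : closedOK code Data.cert 1202 2048 Data.states Data.gens 1216 Data.mv38 = true ∧
    Data.mv38.length = 32 := by decide +kernel

theorem moves39 : closedOK code Data.cert 1202 2048 Data.states Data.gens 1248 Data.mv39 = true ∧
    Data.mv39.length = 32 := by decide +kernel

theorem moves40 : closedOK code Data.cert 1202 2048 Data.states Data.gens 1280 Data.mv40 = true ∧
    Data.mv40.length = 32 := by decide +kernel

theorem moves41 : closedOK code Data.cert 1202 2048 Data.states Data.gens 1312 Data.mv41 = true ∧
    Data.mv41.length = 32 := by decide +kernel

theorem moves42 : closedOK code Data.cert 1202 2048 Data.states Data.gens 1344 Data.mv42 = true ∧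
    Data.mv42.length = 32 := by decide +kernel

theorem moves43 : closedOK code Data.cert 1202 2048 Data.states Data.gens 1376 Data.mv43 = true ∧
    Data.mv43.length = 32 := by decide +kernel

theorem moves44 : closedOK code Data.cert 1202 2048 Data.states Data.gens 1408 Data.mv44 = true ∧
    Data.mv44.length = 32 := by decide +kernel

theorem moves45 : closedOK code Data.cert 1202 2048 Data.states Data.gens 1440 Data.mv45 = true ∧
    Data.mv45.length = 32 := by decide +kernel

theorem moves46 : closedOK code Data.cert 1202 2048 Data.states Data.gens 1472 Data.mv46 = true ∧
    Data.mv46.length = 32 := by decide +kernel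

theorem moves47 : closedOK code Data.cert 1202 2048 Data.states Data.gens 1504 Data.mv47 = true ∧
    Data.mv47.length = 32 := by decide +kernel

end CfsgLib.J4Local.Checks
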