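import Cfsg.Agent.J4Local.Code
import Cfsg.Agent.J4Local.Facts
import Cfsg.Agent.J4Local.States
import Cfsg.Agent.J4Local.Moves12
import Cfsg.Agent.J4Local.Moves13
import Cfsg.Agent.J4Local.Moves14
import Cfsg.Agent.J4Local.Moves15

/-! Kernel checks of the certificate. -/

set_option autoImplicit false
set_option maxRecDepth 100000

namespace CfsgLib.J4Local.Checks

open CfsgLib.DCert22

theorem moves48 : closedOK code Data.cert 1202 2048 Data.states Data.gens 1536 Data.mv48 = true ∧
    Data.mv48.length = 32 := by decide +kernel

theorem moves49 : closedOK code Data.cert 1202 2048 Data.states Data.gens 1568 Data.mv49 = true ∧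
    Data.mv49.length = 32 := by decide +kernel

theorem moves50 : closedOK code Data.cert 1202 2048 Data.states Data.gens 1600 Data.mv50 = true ∧
    Data.mv50.length = 32 := by decide +kernel

theorem moves51 : closedOK code Data.cert 1202 2048 Data.states Data.gens 1632 Data.mv51 = true ∧
    Data.mv51.length = 32 := by decide +kernel

theorem moves52 : closedOK code Data.cert 1202 2048 Data.states Data.gens 1664 Data.mv52 = true ∧
    Data.mv52.length = 32 := by decide +kernel

theorem moves53 : closedOK code Data.cert 1202 2048 Data.states Data.gens 1696 Data.mv53 = true ∧
    Data.mv53.length = 32 := by decide +kernel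

theorem moves54 : closedOK code Data.cert 1202 2048 Data.states Data.gens 1728 Data.mv54 = true ∧
    Data.mv54.length = 32 := by decide +kernel

theorem moves55 : closedOK code Data.cert 1202 2048 Data.states Data.gens 1760 Data.mv55 = true ∧
    Data.mv55.length = 32 := by decide +kernel

theorem moves56 : closedOK code Data.cert 1202 2048 Data.states Data.gens 1792 Data.mv56 = true ∧
    Data.mv56.length = 32 := by decide +kernel

theorem moves57 : closedOK code Data.cert 1202 2048 Data.states Data.gens 1824 Data.mv57 = true ∧
    Data.mv57.length = 32 := by decide +kernel

theorem moves58 : closedOK code Data.cert 1202 2048 Data.states Data.gens 1856 Data.mv58 = true ∧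
    Data.mv58.length = 32 := by decide +kernel

theorem moves59 : closedOK code Data.cert 1202 2048 Data.states Data.gens 1888 Data.mv59 = true ∧
    Data.mv59.length = 32 := by decide +kernel

theorem moves60 : closedOK code Data.cert 1202 2048 Data.states Data.gens 1920 Data.mv60 = true ∧
    Data.mv60.length = 32 := by decide +kernel

theorem moves61 : closedOK code Data.cert 1202 2048 Data.states Data.gens 1952 Data.mv61 = true ∧
    Data.mv61.length = 32 := by decide +kernel

theorem moves62 : closedOK code Data.cert 1202 2048 Data.states Data.gens 1984 Data.mv62 = true ∧
    Data.mv62.length = 32 := by decide +kernel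

theorem moves63 : closedOK code Data.cert 1202 2048 Data.states Data.gens 2016 Data.mv63 = true ∧
    Data.mv63.length = 32 := by decide +kernel

end CfsgLib.J4Local.Checks
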