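import Cfsg.Agent.J4Local.Chains
import Cfsg.Agent.DCosetCert22.Defs

/-!
Permutations of 24 points packed into numbers, and membership by sifting.
-/

set_option autoImplicit false

namespace CfsgLib.J4Local

open CfsgLib.DCert22

/-- sum of the first values -/
def psum (f : ℕ → ℕ) : ℕ → ℕ
  | 0 => 0
  | k + 1 => psum f k + f k

/-- the digit at a position -/
def dig (n i : ℕ) : ℕ := (Nat.shiftRight n (5 * i)) % 32

/-- packing -/
def pk (f : ℕ → ℕ) : ℕ := psum (fun i => f i * 32 ^ i) 24

/-- product -/
def mulC (a b : ℕ) : ℕ := pk fun i => dig a (dig b i)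

/-- inverse -/
def invC (a : ℕ) : ℕ := psum (fun i => i * 32 ^ dig a i) 24

/-- the entry whose first member sends `b` to `y` -/
def pick (b y : ℕ) : List (ℕ × ℕ × ℕ) → Option (ℕ × ℕ × ℕ)
  | [] => none
  | e :: es => if Nat.beq (dig e.2.1 b) y then some e else pick b y es

/-- sifting, keeping the product of the chosen members -/
def sift : List (ℕ × List (ℕ × ℕ × ℕ)) → ℕ → ℕ → Option ℕ
  | [], _, acc => some acc
  | (b, ks) :: ls, r, acc =>
    match pick b (dig r b) ks with
    | some (_, k, ki) => sift ls (mulC ki r) (mulC acc k)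
    | none => none

/-- is `n` a product of members of the chain -/
def inChain (ls : List (ℕ × List (ℕ × ℕ × ℕ))) (n : ℕ) : Bool :=
  match sift ls n Chains.oneC with
  | some a => Nat.beq a n
  | none => false

/-- the coded operations -/
def code : Code where
  mul := mulC
  inv := invC
  one := Chains.oneC
  u := Chains.oneC
  valid := inChain Chains.hLevels
  cim c := if inChain Chains.cLevels c then some c else none

/-- value of a program entry -/
def stepVal (prev : List ℕ) : Bool × ℕ × ℕ × ℕ → ℕ
  | (true, i, _, _) => invC (prev.getD i Chains.oneC)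
  | (false, i, j, _) => mulC (prev.getD i Chains.oneC) (prev.getD j Chains.oneC)

/-- the stated values of a program -/
def progOK : List ℕ → List (Bool × ℕ × ℕ × ℕ) → Bool
  | _, [] => true
  | prev, e :: es => Nat.beq (stepVal prev e) e.2.2.2 && progOK (prev ++ [e.2.2.2]) es

/-- the members of a chain are entries of a list -/
def listedOK (all : List ℕ) : List (ℕ × List (ℕ × ℕ × ℕ)) → Bool
  | [] => true
  | (_, ks) :: ls =>
    ks.all (fun e => Nat.blt e.1 all.length && Nat.beq (all.getD e.1 0) e.2.1) && listedOK all ls

end CfsgLib.J4Local
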